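import Mathlib.RingTheory.Coalgebra.Convolution
import Mathlib.RingTheory.Bialgebra.Basic
import Mathlib.LinearAlgebra.FiniteDimensional.Basic
import Mathlib.LinearAlgebra.TensorProduct.Basis
import Mathlib.LinearAlgebra.TensorProduct.Finiteness
import Mathlib.RingTheory.Noetherian.Basic
import Mathlib.RingTheory.Artinian.Module

/-!
# Connected cocommutative coalgebras: contractions, the filtration by reduced functionals
-/

noncomputable section

universe u

open TensorProduct Coalgebra WithConv

namespace Groth.Agent.MilnorMooreLib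

variable {k : Type*} [Field k]

section Tensor

variable {V W : Type*} [AddCommGroup V] [Module k V] [AddCommGroup W] [Module k W]

/-- contraction of the right tensor factor against a functional -/
def ctr (a : W →ₗ[k] k) : V ⊗[k] W →ₗ[k] V :=
  (TensorProduct.rid k V).toLinearMap ∘ₗ a.lTensor V

@[simp] lemma ctr_tmul (a : W →ₗ[k] k) (v : V) (w : W) : ctr a (v ⊗ₜ[k] w) = a w • v := by
  simp [ctr]

lemma eq_zero_of_ctr (t : V ⊗[k] W) (h : ∀ a : W →ₗ[k] k, ctr a t = 0) : t = 0 := by
  classical
  obtain ⟨ι, ⟨b⟩⟩ : ∃ ι : Type _, Nonempty (Module.Basis ι k W) :=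
    ⟨_, ⟨Module.Basis.ofVectorSpace k W⟩⟩
  refine (TensorProduct.equivFinsuppOfBasisRight b (M := V)).map_eq_zero_iff.1 ?_
  ext i
  have : ∀ s : V ⊗[k] W, TensorProduct.equivFinsuppOfBasisRight b s i = ctr (b.coord i) s := by
    intro s
    induction s using TensorProduct.induction_on with
    | zero => simp
    | tmul v w => simp
    | add x y hx hy => simp [map_add, hx, hy]
  simp [this, h]

lemma map_id_eq_self_of_ctr_mem (D : Submodule k V) (p : V →ₗ[k] V) (hp : ∀ d ∈ D, p d = d)
    (t : V ⊗[k] W) (h : ∀ a : W →ₗ[k] k, ctr a t ∈ D) : p.rTensor W t = t := by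
  refine sub_eq_zero.1 (eq_zero_of_ctr _ fun a => ?_)
  have : ctr a (p.rTensor W t) = p (ctr a t) := by
    have : (ctr a).comp (p.rTensor W) = p.comp (ctr a) := by ext v w; simp
    exact LinearMap.congr_fun this t
  rw [map_sub, this, hp _ (h a), sub_self]

end Tensor

variable {H : Type*} [AddCommGroup H] [Module k H]

lemma mem_range_map_of_ctr_mem (D : Submodule k H) (t : H ⊗[k] H)
    (h : ∀ a : H →ₗ[k] k, ctr a t ∈ D) (hs : TensorProduct.comm k H H t = t) :
    t ∈ LinearMap.range (TensorProduct.map D.subtype D.subtype) := by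
  obtain ⟨p, hp⟩ := D.subtype.exists_leftInverse_of_injective D.ker_subtype
  let P : H →ₗ[k] H := D.subtype ∘ₗ p
  have hP : ∀ d ∈ D, P d = d := fun d hd => by
    simpa [P] using congrArg Subtype.val (LinearMap.congr_fun hp ⟨d, hd⟩)
  have h1 : P.rTensor H t = t := map_id_eq_self_of_ctr_mem D P hP t h
  have h2 : P.lTensor H t = t := by
    have := congrArg (TensorProduct.comm k H H) h1
    rw [hs] at this
    have e : ∀ s : H ⊗[k] H,
        TensorProduct.comm k H H (P.rTensor H s) = P.lTensor H (TensorProduct.comm k H H s) := by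
      intro s
      induction s using TensorProduct.induction_on with
      | zero => simp
      | tmul v w => simp
      | add x y hx hy => simp [map_add, hx, hy]
    rwa [e, hs] at this
  refine ⟨TensorProduct.map p p t, ?_⟩
  calc TensorProduct.map D.subtype D.subtype (TensorProduct.map p p t)
      = TensorProduct.map P P t := by
        rw [← LinearMap.comp_apply, ← TensorProduct.map_comp]
    _ = P.lTensor H (P.rTensor H t) := by
        rw [← LinearMap.comp_apply, LinearMap.lTensor_comp_rTensor]
    _ = t := by rw [h1, h2]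

variable [Coalgebra k H]

/-- the action of the dual algebra -/
def T (a : H →ₗ[k] k) : H →ₗ[k] H := ctr a ∘ₗ comul

lemma T_apply (a : H →ₗ[k] k) (h : H) : T a h = ctr a (comul (R := k) h) := rfl

lemma comul_T (a : H →ₗ[k] k) (h : H) :
    comul (R := k) (T a h) = (T a).lTensor H (comul (R := k) h) := by
  have e1 : ∀ t : H ⊗[k] H, comul (R := k) (ctr a t) = ctr a ((comul (R := k)).rTensor H t) := by
    intro t
    induction t using TensorProduct.induction_on with
    | zero => simp
    | tmul v w => simp
    | add x y hx hy => simp only [map_add, hx, hy]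
  have e2 : (ctr a : H ⊗[k] H →ₗ[k] H).lTensor H ∘ₗ (TensorProduct.assoc k H H H).toLinearMap
      = ctr a := by
    ext x y z
    simp [TensorProduct.tmul_smul]
  rw [T_apply, e1]
  calc ctr a ((comul (R := k)).rTensor H (comul (R := k) h))
      = (ctr a : H ⊗[k] H →ₗ[k] H).lTensor H
          (TensorProduct.assoc k H H H ((comul (R := k)).rTensor H (comul (R := k) h))) :=
        (LinearMap.congr_fun e2 _).symm
    _ = (ctr a : H ⊗[k] H →ₗ[k] H).lTensor H ((comul (R := k)).lTensor H (comul (R := k) h)) := by
        rw [Coalgebra.coassoc_apply]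
    _ = (T a).lTensor H (comul (R := k) h) := by
        rw [← LinearMap.lTensor_comp_apply]; rfl

lemma T_T (a b : H →ₗ[k] k) (h : H) : T b (T a h) = T (b ∘ₗ T a) h := by
  rw [T_apply b, comul_T, T_apply (b ∘ₗ T a)]
  have : (ctr b : H ⊗[k] H →ₗ[k] H) ∘ₗ (T a).lTensor H = ctr (b ∘ₗ T a) := by
    ext x y
    simp
  exact LinearMap.congr_fun this _

variable [IsCocomm k H]

lemma T_symm (a b : H →ₗ[k] k) (h : H) : b (T a h) = a (T b h) := by
  have e : ∀ t : H ⊗[k] H, b (ctr a t) = a (ctr b (TensorProduct.comm k H H t)) := by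
    intro t
    induction t using TensorProduct.induction_on with
    | zero => simp
    | tmul v w => simp [mul_comm]
    | add x y hx hy => simp only [map_add, hx, hy]
  rw [T_apply, e, comm_comul, ← T_apply]

lemma T_comm (a b : H →ₗ[k] k) (h : H) : T a (T b h) = T b (T a h) := by
  rw [T_T, T_T]
  congr 1
  congr 1
  ext x
  exact T_symm b a x

/-- subspaces stable under the dual algebra -/
def Stable (D : Submodule k H) : Prop := ∀ a : H →ₗ[k] k, ∀ d ∈ D, T a d ∈ D

lemma Stable.comul_mem {D : Submodule k H} (hD : Stable D) {d : H} (hd : d ∈ D) :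
    comul (R := k) d ∈ LinearMap.range (TensorProduct.map D.subtype D.subtype) :=
  mem_range_map_of_ctr_mem D _ (fun a => hD a d hd) (comm_comul k d)

lemma exists_stable_finite (h : H) :
    ∃ D : Submodule k H, Stable D ∧ Module.Finite k D ∧ h ∈ D := by
  let Φ : (H →ₗ[k] k) →ₗ[k] H :=
    { toFun := fun a => T a h
      map_add' := fun a b => by
        simp only [T_apply, ctr, LinearMap.comp_apply, LinearMap.lTensor_add, LinearMap.add_apply,
          map_add]
      map_smul' := fun c a => by
        simp only [T_apply, ctr, LinearMap.comp_apply, LinearMap.lTensor_smul, LinearMap.smul_apply,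
          map_smul, RingHom.id_apply] }
  refine ⟨LinearMap.range Φ, ?_, ?_, counit, ?_⟩
  · rintro b _ ⟨a, rfl⟩
    exact ⟨b ∘ₗ T a, (T_T a b h).symm⟩
  · obtain ⟨S, hS⟩ := TensorProduct.exists_finset (R := k) (comul (R := k) h)
    have : LinearMap.range Φ ≤ Submodule.span k (Set.range fun i : S => i.1.1) := by
      rintro _ ⟨a, rfl⟩
      show ctr a (comul (R := k) h) ∈ _
      rw [hS, map_sum]
      refine Submodule.sum_mem _ fun i hi => ?_
      rw [ctr_tmul]
      exact Submodule.smul_mem _ _ (Submodule.subset_span ⟨⟨i, hi⟩, rfl⟩)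
    haveI hspan : Module.Finite k (Submodule.span k (Set.range fun i : S => i.1.1)) :=
      Module.Finite.span_of_finite k (Set.finite_range _)
    exact Module.Finite.of_injective (Submodule.inclusion this) (Submodule.inclusion_injective this)
  · show ctr counit (comul (R := k) h) = h
    simp [ctr, LinearMap.comp_apply, Coalgebra.lTensor_counit_comul]

variable (k H) in
/-- The filtration by annihilators of products of functionals vanishing at `e`. -/
def Fil (e : H) : ℕ → Submodule k H
  | 0 => ⊥
  | n + 1 => ⨅ (a : H →ₗ[k] k) (_ : a e = 0), (Fil e n).comap (T a)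

variable {e : H}

lemma mem_Fil_succ {n : ℕ} {h : H} :
    h ∈ Fil k H e (n + 1) ↔ ∀ a : H →ₗ[k] k, a e = 0 → T a h ∈ Fil k H e n := by
  simp [Fil]

lemma Fil_stable : ∀ n, Stable (Fil k H e n) := by
  intro n
  induction n with
  | zero => intro a d hd; simp [Fil] at hd ⊢; simp [hd]
  | succ n ih =>
    intro a d hd
    rw [mem_Fil_succ] at hd ⊢
    intro b hb
    rw [T_comm]
    exact ih a _ (hd b hb)

lemma Fil_mono : Monotone (Fil k H e) := by
  apply monotone_nat_of_le_succ
  intro n
  induction n with
  | zero => exact bot_le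
  | succ n ih =>
    intro h hh
    rw [mem_Fil_succ] at hh ⊢
    exact fun a ha => ih (hh a ha)

/-- Exhaustion of a connected coalgebra by the filtration. -/
theorem exists_mem_Fil (he : ∀ a : H →ₗ[k] k, T a e = a e • e) (he0 : e ≠ 0)
    (hconn : ∀ D : Submodule k H, Stable D → D ≠ ⊥ → e ∈ D) (h : H) :
    ∃ n, h ∈ Fil k H e n := by
  obtain ⟨D, hD, hfin, hh⟩ := exists_stable_finite (k := k) h
  haveI := hfin
  -- functionals vanishing at e act nilpotently on D
  have hnil : ∀ a : H →ₗ[k] k, a e = 0 → ∃ j, ∀ d ∈ D, (T a)^[j] d = 0 := by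
    intro a ha
    let T' : D →ₗ[k] D := (T a).restrict (hD a)
    obtain ⟨j, hj⟩ := IsArtinian.monotone_stabilizes
      ⟨fun i => OrderDual.toDual (LinearMap.range (T' ^ i)), monotone_nat_of_le_succ fun i => by
        show LinearMap.range (T' ^ (i + 1)) ≤ LinearMap.range (T' ^ i)
        rw [pow_succ]; exact LinearMap.range_comp_le_range _ _⟩
    set R := LinearMap.range (T' ^ j) with hR
    have hsurj : Submodule.map T' R = R := by
      have := hj (j + 1) (Nat.le_succ j)
      simp only [OrderHom.coe_mk, EmbeddingLike.apply_eq_iff_eq] at this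
      rw [hR, ← LinearMap.range_comp, ← Module.End.mul_eq_comp, ← pow_succ']
      exact this.symm
    have hinj : ∀ r ∈ R, T' r = 0 → r = 0 := by
      intro r hr hr0
      have hmaps : ∀ x ∈ R, T' x ∈ R := fun x hx => hsurj ▸ Submodule.mem_map_of_mem hx
      have hs : Function.Surjective (T'.restrict hmaps) := by
        rintro ⟨y, hy⟩
        rw [← hsurj] at hy
        obtain ⟨x, hx, rfl⟩ := hy
        exact ⟨⟨x, hx⟩, rfl⟩
      have hi := LinearMap.injective_iff_surjective.2 hs
      have : T'.restrict hmaps ⟨r, hr⟩ = T'.restrict hmaps 0 := by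
        rw [map_zero]; exact Subtype.ext hr0
      exact congrArg Subtype.val (hi this)
    have key : ∀ (i : ℕ) (b : H →ₗ[k] k) (x : D),
        T b ((T' ^ i) x : H) = ((T' ^ i) ⟨T b x, hD b x x.2⟩ : H) := by
      intro i
      induction i with
      | zero => intro b x; rfl
      | succ i ih =>
        intro b x
        rw [pow_succ', Module.End.mul_apply, Module.End.mul_apply]
        show T b (T a ((T' ^ i) x : H)) = T a ((T' ^ i) ⟨T b x, hD b x x.2⟩ : H)
        rw [T_comm, ih]
    have hRst : Stable (R.map D.subtype) := by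
      rintro b _ ⟨_, ⟨x, rfl⟩, rfl⟩
      exact ⟨_, ⟨⟨T b x, hD b x x.2⟩, rfl⟩, (key j b x).symm⟩
    refine ⟨j, fun d hd => ?_⟩
    have hzero : R = ⊥ := by
      by_contra hne
      obtain ⟨r, hr, hre⟩ : ∃ r ∈ R, (r : H) = e := by
        have := hconn _ hRst (by
          intro h0
          exact hne (Submodule.map_injective_of_injective D.injective_subtype
            (h0.trans (Submodule.map_bot _).symm)))
        exact this
      have : r = 0 := hinj r hr (Subtype.ext (by
        show T a r = 0
        rw [hre, he, ha, zero_smul]))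
      exact he0 (by rw [← hre, this]; rfl)
    have hit : ∀ (i : ℕ) (x : D), ((T' ^ i) x : H) = (T a)^[i] x := by
      intro i
      induction i with
      | zero => intro x; rfl
      | succ i ih =>
        intro x
        rw [pow_succ', Module.End.mul_apply, Function.iterate_succ_apply', ← ih]
        rfl
    have h0 : (T' ^ j) ⟨d, hd⟩ ∈ R := ⟨_, rfl⟩
    rw [hzero, Submodule.mem_bot] at h0
    rw [← hit j ⟨d, hd⟩, h0]; rfl
  -- the union of D ∩ Fil n
  let E : ℕ → Submodule k D := fun n => (Fil k H e n).comap D.subtype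
  have hE : Monotone E := fun m n hmn => Submodule.comap_mono (Fil_mono hmn)
  obtain ⟨n, hn⟩ := monotone_stabilizes_iff_noetherian.2 inferInstance ⟨E, hE⟩
  refine ⟨n, ?_⟩
  by_contra hnot
  -- minimal stable subspace strictly above
  let P : Submodule k D → Prop := fun W => E n < W ∧ Stable (W.map D.subtype)
  have hP : ∃ W, P W := by
    refine ⟨⊤, lt_top_iff_ne_top.2 fun h0 => hnot ?_, ?_⟩
    · have : (⟨h, hh⟩ : D) ∈ E n := h0 ▸ trivial
      exact this
    · rw [Submodule.map_top, Submodule.range_subtype]; exact hD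
  obtain ⟨W, hW, hmin⟩ := (wellFounded_lt (α := Submodule k D)).has_min {W | P W} hP
  have hmem : ∀ w ∈ W, (w : H) ∈ Fil k H e (n + 1) := by
    intro w hw
    rw [mem_Fil_succ]
    intro a ha
    by_contra hcon
    let T' : D →ₗ[k] D := (T a).restrict (hD a)
    let W' : Submodule k D := W.map T' ⊔ E n
    have hW'le : W' ≤ W := by
      refine sup_le ?_ hW.1.le
      rintro _ ⟨x, hx, rfl⟩
      obtain ⟨y, hy, hyx⟩ := hW.2 a (x : H) ⟨x, hx, rfl⟩
      have : y = T' x := Subtype.ext hyx
      rwa [← this]
    have hW'st : Stable (W'.map D.subtype) := by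
      rintro b _ ⟨z, hz, rfl⟩
      obtain ⟨_, ⟨x, hx, rfl⟩, v, hv, rfl⟩ := Submodule.mem_sup.1 hz
      obtain ⟨y, hy, hyx⟩ := hW.2 b (x : H) ⟨x, hx, rfl⟩
      refine ⟨T' y + ⟨T b v, hD b v v.2⟩,
        Submodule.add_mem_sup ⟨y, hy, rfl⟩ (Fil_stable n b v hv), ?_⟩
      simp only [map_add, Submodule.subtype_apply] at hyx ⊢
      show T a y + T b v = T b (T a x) + T b v
      rw [hyx, T_comm]
    have hlt : E n < W' := by
      refine lt_of_le_of_ne le_sup_right fun h0 => hcon ?_
      have : T' w ∈ E n := h0 ▸ Submodule.mem_sup_left ⟨w, hw, rfl⟩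
      exact this
    have heq : W' = W := by
      rcases eq_or_lt_of_le hW'le with h' | h'
      · exact h'
      · exact absurd h' (hmin W' ⟨hlt, hW'st⟩)
    obtain ⟨j, hj⟩ := hnil a ha
    have hvF : ∀ (i : ℕ), ∀ v ∈ Fil k H e n, ((T a : Module.End k H) ^ i) v ∈ Fil k H e n := by
      intro i
      induction i with
      | zero => intro v hv; exact hv
      | succ i ih => intro v hv; rw [pow_succ', Module.End.mul_apply]; exact Fil_stable n a _ (ih v hv)
    have : ∀ i, ∀ x ∈ W, ∃ y ∈ W, (x : H) - ((T a : Module.End k H) ^ i) y ∈ Fil k H e n := by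
      intro i
      induction i with
      | zero => intro x hx; exact ⟨x, hx, by simp⟩
      | succ i ih =>
        intro x hx
        obtain ⟨y, hy, hxy⟩ := ih x hx
        rw [← heq] at hy
        obtain ⟨_, ⟨z, hz, rfl⟩, v, hv, hzv⟩ := Submodule.mem_sup.1 hy
        refine ⟨z, hz, ?_⟩
        have hyz : (y : H) = T a z + v := by rw [← hzv]; rfl
        rw [hyz, map_add] at hxy
        rw [pow_succ, Module.End.mul_apply]
        have hvH : (v : H) ∈ Fil k H e n := hv
        have := Submodule.add_mem _ hxy (hvF i _ hvH)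
        convert this using 1
        abel
    have hWle : W ≤ E n := by
      intro x hx
      obtain ⟨y, hy, hxy⟩ := this j x hx
      rw [Module.End.pow_apply, hj y y.2, sub_zero] at hxy
      exact hxy
    exact absurd hWle hW.1.not_ge
  have h1 : W ≤ E n := fun w hw => by
    have : w ∈ E (n + 1) := hmem w hw
    have hh' : E n = E (n + 1) := hn (n + 1) (Nat.le_succ n)
    rwa [hh']
  exact absurd h1 hW.1.not_ge

end Groth.Agent.MilnorMooreLib
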