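import Groth.Agent.Lib.MilnorMoore.Basic
import Mathlib.RingTheory.Polynomial.Pochhammer
import Mathlib.Algebra.BigOperators.Finprod
import Mathlib.Algebra.Polynomial.Roots
import Mathlib.LinearAlgebra.Dual.Lemmas
import Mathlib.RingTheory.TensorProduct.Basic

/-!
# The convolution logarithm of the identity of a connected cocommutative bialgebra
-/

noncomputable section

open TensorProduct Coalgebra WithConv Polynomial

namespace Groth.Agent.MilnorMooreLib

variable {k : Type*} [Field k]

/-- the polynomial `t ↦ t choose a` -/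
def chP (a : ℕ) : k[X] := C ((a.factorial : k)⁻¹) * descPochhammer k a

lemma eval_chP [CharZero k] (a m : ℕ) : (chP a : k[X]).eval (m : k) = (m.choose a : k) := by
  rw [chP, eval_mul, eval_C, descPochhammer_eval_eq_descFactorial,
    Nat.descFactorial_eq_factorial_mul_choose, Nat.cast_mul, ← mul_assoc,
    inv_mul_cancel₀ (Nat.cast_ne_zero.2 a.factorial_ne_zero), one_mul]

/-- the linear coefficient of `t choose a` -/
def dch (a : ℕ) : k := (chP a : k[X]).coeff 1

lemma coeff_zero_chP [CharZero k] (a : ℕ) : (chP a : k[X]).coeff 0 = if a = 0 then 1 else 0 := by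
  have h := eval_chP (k := k) a 0
  rw [Nat.cast_zero, ← coeff_zero_eq_eval_zero] at h
  rcases a with _ | a <;> simp [h]

lemma dch_zero : dch (k := k) 0 = 0 := by
  simp [dch, chP, Polynomial.coeff_one]

lemma dch_one : dch (k := k) 1 = 1 := by
  simp [dch, chP]

lemma coeff_one_mul_chP [CharZero k] (a b : ℕ) :
    ((chP a : k[X]) * chP b).coeff 1
      = (if b = 0 then dch a else 0) + (if a = 0 then dch b else 0) := by
  rw [Polynomial.coeff_mul, show Finset.antidiagonal 1 = {(0, 1), (1, 0)} by decide,
    Finset.sum_insert (by simp), Finset.sum_singleton]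
  simp only [coeff_zero_chP, dch]
  split_ifs <;> simp [add_comm]

/-- A linear identity between vectors with polynomial coefficients, valid at all natural numbers,
holds after applying any linear functional to the coefficients. -/
lemma sum_L_smul_eq_zero [CharZero k] {V : Type*} [AddCommGroup V] [Module k V] {ι : Type*}
    (s : Finset ι) (P : ι → k[X]) (v : ι → V)
    (h : ∀ m : ℕ, ∑ i ∈ s, (P i).eval (m : k) • v i = 0) (L : k[X] →ₗ[k] k) :
    ∑ i ∈ s, L (P i) • v i = 0 := by
  apply (Module.forall_dual_apply_eq_zero_iff k _).mp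
  intro φ
  let q : k[X] := ∑ i ∈ s, φ (v i) • P i
  have hq : q = 0 := by
    refine Polynomial.eq_zero_of_infinite_isRoot q ((Set.infinite_range_of_injective
      (Nat.cast_injective (R := k))).mono ?_)
    rintro _ ⟨m, rfl⟩
    show q.IsRoot _
    have := congrArg φ (h m)
    simp only [map_sum, map_smul, smul_eq_mul, map_zero] at this
    simp only [q, Polynomial.IsRoot, eval_finsetSum, Polynomial.smul_eq_C_mul, eval_mul, eval_C]
    rw [← this]
    exact Finset.sum_congr rfl fun i _ => mul_comm _ _
  have := congrArg L hq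
  simp only [q, map_sum, map_smul, smul_eq_mul, map_zero] at this
  simp only [map_sum, map_smul, smul_eq_mul]
  rw [← this]
  exact Finset.sum_congr rfl fun i _ => mul_comm _ _

variable {H : Type*} [Ring H] [Bialgebra k H] [IsCocomm k H]
variable {B : Type*} [Ring B] [Algebra k B]

lemma T_one (a : H →ₗ[k] k) : T a (1 : H) = a 1 • (1 : H) := by
  simp [T_apply, Algebra.TensorProduct.one_def]

variable (k H) in
/-- the filtration of the bialgebra -/
abbrev FH (n : ℕ) : Submodule k H := Fil k H (1 : H) n

/-- `f` vanishes on the `n`-th step -/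
def Kills (n : ℕ) (f : WithConv (H →ₗ[k] B)) : Prop := ∀ h ∈ FH k H n, f h = 0

lemma mul_apply_eq (f g : WithConv (H →ₗ[k] B)) (h : H) :
    (f * g) h = LinearMap.mul' k B (TensorProduct.map f.ofConv g.ofConv (comul (R := k) h)) := rfl

lemma Kills.mul_right {n : ℕ} {f : WithConv (H →ₗ[k] B)} (hf : Kills n f)
    (g : WithConv (H →ₗ[k] B)) : Kills n (f * g) := by
  intro h hh
  obtain ⟨s, hs⟩ := (Fil_stable n).comul_mem hh
  rw [mul_apply_eq, ← hs]
  clear hs
  induction s using TensorProduct.induction_on with
  | zero => simp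
  | tmul x y => simp [hf x x.2]
  | add x y hx hy => simp only [map_add, hx, hy, add_zero]

lemma Kills.mul_left {n : ℕ} {g : WithConv (H →ₗ[k] B)} (hg : Kills n g)
    (f : WithConv (H →ₗ[k] B)) : Kills n (f * g) := by
  intro h hh
  obtain ⟨s, hs⟩ := (Fil_stable n).comul_mem hh
  rw [mul_apply_eq, ← hs]
  clear hs
  induction s using TensorProduct.induction_on with
  | zero => simp
  | tmul x y => simp [hg y y.2]
  | add x y hx hy => simp only [map_add, hx, hy, add_zero]

lemma Kills.mono {m n : ℕ} {f : WithConv (H →ₗ[k] B)} (hf : Kills n f) (hmn : m ≤ n) :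
    Kills m f := fun h hh => hf h (Fil_mono hmn hh)

variable (k H) in
/-- `x ↦ x - ε(x)` -/
def red1 : H →ₗ[k] H := LinearMap.id - Algebra.linearMap k H ∘ₗ counit

lemma red1_apply (x : H) : red1 k H x = x - algebraMap k H (counit (R := k) x) := rfl

lemma comp_red1 {f : H →ₗ[k] B} (hf : f 1 = 0) : f ∘ₗ red1 k H = f := by
  ext x
  simp [red1_apply, Algebra.algebraMap_eq_smul_one, hf]

lemma one_mem_FH (n : ℕ) : (1 : H) ∈ FH k H (n + 1) := by
  rw [mem_Fil_succ]
  intro a ha
  rw [T_one, ha, zero_smul]
  exact zero_mem _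

lemma red1_mem {n : ℕ} {x : H} (hx : x ∈ FH k H n) : red1 k H x ∈ FH k H n := by
  rcases n with _ | n
  · simp [Fil] at hx ⊢; simp [hx]
  · rw [red1_apply, Algebra.algebraMap_eq_smul_one]
    exact Submodule.sub_mem _ hx (Submodule.smul_mem _ _ (one_mem_FH n))

/-- the reduced coproduct -/
lemma red_comul_mem {n : ℕ} {h : H} (hh : h ∈ FH k H (n + 1)) :
    TensorProduct.map (red1 k H) (red1 k H) (comul (R := k) h) ∈
      LinearMap.range (TensorProduct.map (FH k H n).subtype (FH k H n).subtype) := by
  apply mem_range_map_of_ctr_mem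
  · intro a
    have e : ∀ t : H ⊗[k] H, ctr a (TensorProduct.map (red1 k H) (red1 k H) t)
        = red1 k H (ctr (a ∘ₗ red1 k H) t) := by
      intro t
      induction t using TensorProduct.induction_on with
      | zero => simp
      | tmul x y => simp
      | add x y hx hy => simp only [map_add, hx, hy]
    rw [e, ← T_apply]
    refine red1_mem ((mem_Fil_succ.1 hh) _ ?_)
    simp [red1_apply]
  · have e : ∀ t : H ⊗[k] H, TensorProduct.comm k H H (TensorProduct.map (red1 k H) (red1 k H) t)
        = TensorProduct.map (red1 k H) (red1 k H) (TensorProduct.comm k H H t) := by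
      intro t
      induction t using TensorProduct.induction_on with
      | zero => simp
      | tmul x y => simp
      | add x y hx hy => simp only [map_add, hx, hy]
    rw [e, comm_comul]

lemma mul_apply_red {f g : WithConv (H →ₗ[k] B)} (hf : f 1 = 0) (hg : g 1 = 0) (h : H) :
    (f * g) h = LinearMap.mul' k B (TensorProduct.map f.ofConv g.ofConv
      (TensorProduct.map (red1 k H) (red1 k H) (comul (R := k) h))) := by
  rw [← LinearMap.comp_apply (TensorProduct.map f.ofConv g.ofConv), ← TensorProduct.map_comp,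
    comp_red1 hf, comp_red1 hg]
  rfl

lemma Kills.mul_reduced {n : ℕ} {f g : WithConv (H →ₗ[k] B)} (hf : Kills n f) (hf1 : f 1 = 0)
    (hg : g 1 = 0) : Kills (n + 1) (f * g) := by
  intro h hh
  obtain ⟨s, hs⟩ := red_comul_mem hh
  rw [mul_apply_red hf1 hg, ← hs]
  clear hs
  induction s using TensorProduct.induction_on with
  | zero => simp
  | tmul x y => simp [hf x x.2]
  | add x y hx hy => simp only [map_add, hx, hy, add_zero]

lemma mul_one_apply (f g : WithConv (H →ₗ[k] B)) : (f * g) 1 = f 1 * g 1 := by
  simp [mul_apply_eq, Algebra.TensorProduct.one_def]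

lemma pow_one_apply {f : WithConv (H →ₗ[k] B)} (hf : f 1 = 0) (n : ℕ) : (f ^ (n + 1)) 1 = 0 := by
  rw [pow_succ, mul_one_apply, hf, mul_zero]

lemma kills_pow {f : WithConv (H →ₗ[k] B)} (hf : f 1 = 0) (n : ℕ) : Kills n (f ^ n) := by
  induction n with
  | zero => intro h hh; simp [Fil] at hh; simp [hh]
  | succ n ih =>
    rcases n with _ | n
    · intro h hh
      rw [pow_one]
      have : red1 k H h = 0 := by
        apply (Module.forall_dual_apply_eq_zero_iff k _).mp
        intro a
        have hmem : T (a ∘ₗ red1 k H) h = 0 := by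
          have := (mem_Fil_succ.1 hh) (a ∘ₗ red1 k H) (by simp [red1_apply])
          simpa [Fil] using this
        have := congrArg (counit (R := k)) hmem
        rw [map_zero, T_symm, show T (counit (R := k)) h = h by
          simp [T_apply, ctr, Coalgebra.lTensor_counit_comul]] at this
        exact this
      rw [← comp_red1 (f := f.ofConv) hf]
      show f.ofConv (red1 k H h) = 0
      rw [this, map_zero]
    · rw [pow_succ]
      exact ih.mul_reduced (pow_one_apply hf n) hf

lemma kills_pow_le {f : WithConv (H →ₗ[k] B)} (hf : f 1 = 0) {n a : ℕ} (h : n ≤ a) :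
    Kills n (f ^ a) := (kills_pow hf a).mono h

variable (k H) in
/-- `id - e` in the convolution algebra -/
def J : WithConv (H →ₗ[k] H) := toConv (red1 k H)

@[simp] lemma J_one : J k H (1 : H) = 0 := by simp [J, red1_apply]

lemma toConv_id_eq : (toConv LinearMap.id : WithConv (H →ₗ[k] H)) = J k H + 1 := by
  ext x; simp [J, red1_apply]

variable (k H) in
def Conn : Prop := ∀ h : H, ∃ n, h ∈ FH k H n

omit [IsCocomm k H] in
lemma binom_hom [CharZero k] {R : Type*} [Ring R] {M : Type*} [AddCommGroup M] [Module k M]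
    (Φ : R →+ M) {j : R} {N : ℕ} (hj : ∀ a, N ≤ a → Φ (j ^ a) = 0) (m : ℕ) :
    Φ ((j + 1) ^ m) = ∑ a ∈ Finset.range N, (chP a : k[X]).eval (m : k) • Φ (j ^ a) := by
  rw [Commute.add_pow (Commute.one_right j), map_sum]
  simp only [one_pow, mul_one, eval_chP, Nat.cast_smul_eq_nsmul, ← nsmul_eq_mul', map_nsmul]
  calc ∑ a ∈ Finset.range (m + 1), m.choose a • Φ (j ^ a)
      = ∑ a ∈ Finset.range (m + 1 + N), m.choose a • Φ (j ^ a) := by
        refine Finset.sum_subset (Finset.range_subset_range.2 (by omega)) fun a _ ha => ?_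
        rw [Finset.mem_range, not_lt] at ha
        rw [Nat.choose_eq_zero_of_lt (by omega), zero_smul]
    _ = ∑ a ∈ Finset.range N, m.choose a • Φ (j ^ a) := by
        refine (Finset.sum_subset (Finset.range_subset_range.2 (by omega)) fun a _ ha => ?_).symm
        rw [Finset.mem_range, not_lt] at ha
        rw [hj a ha, smul_zero]

/-- evaluation at a point -/
def evh (h : H) : WithConv (H →ₗ[k] B) →+ B where
  toFun f := f h
  map_zero' := by simp
  map_add' f g := by simp

omit [IsCocomm k H] in
@[simp] lemma evh_apply (h : H) (f : WithConv (H →ₗ[k] B)) : evh h f = f h := rfl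

variable (hH : Conn k H)
include hH

/-- the logarithm of the identity as a function -/
def logId : H →ₗ[k] H where
  toFun h := ∑ᶠ a, (dch a : k) • ((J k H) ^ a) h
  map_add' x y := by
    rw [← finsum_add_distrib]
    · simp only [map_add, smul_add]
    · obtain ⟨n, hn⟩ := hH x
      refine (Set.finite_lt_nat n).subset fun a ha => ?_
      by_contra hlt
      exact ha (by simp [kills_pow_le (J_one (k := k) (H := H)) (not_lt.1 hlt) x hn])
    · obtain ⟨n, hn⟩ := hH y
      refine (Set.finite_lt_nat n).subset fun a ha => ?_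
      by_contra hlt
      exact ha (by simp [kills_pow_le (J_one (k := k) (H := H)) (not_lt.1 hlt) y hn])
  map_smul' c x := by
    rw [RingHom.id_apply, smul_finsum]
    simp only [map_smul]
    exact finsum_congr fun a => smul_comm _ _ _

lemma logId_eq {n : ℕ} {h : H} (hn : h ∈ FH k H n) :
    logId hH h = ∑ a ∈ Finset.range n, (dch a : k) • ((J k H) ^ a) h := by
  refine finsum_eq_sum_of_support_subset _ fun a ha => ?_
  rw [Finset.coe_range, Set.mem_Iio]
  by_contra hlt
  exact ha (by simp [kills_pow_le (J_one (k := k) (H := H)) (not_lt.1 hlt) h hn])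

lemma logId_one : logId hH (1 : H) = 0 := by
  rw [logId_eq hH (one_mem_FH 0)]
  simp [dch_zero]

/-- the logarithm of the identity takes primitive values -/
theorem comul_logId [CharZero k] (h : H) :
    comul (R := k) (logId hH h) = logId hH h ⊗ₜ[k] (1 : H) + (1 : H) ⊗ₜ[k] logId hH h := by
  obtain ⟨N, hN⟩ := hH h
  have hN' : h ∈ FH k H (N + 1) := Fil_mono (Nat.le_succ N) hN
  let i1 : H →ₐ[k] H ⊗[k] H := Algebra.TensorProduct.includeLeft
  let i2 : H →ₐ[k] H ⊗[k] H := Algebra.TensorProduct.includeRight
  let j1 : WithConv (H →ₗ[k] H ⊗[k] H) := toConv (i1.toLinearMap ∘ₗ red1 k H)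
  let j2 : WithConv (H →ₗ[k] H ⊗[k] H) := toConv (i2.toLinearMap ∘ₗ red1 k H)
  -- post composition is a ring homomorphism
  let post : (H →ₐ[k] H ⊗[k] H) → (WithConv (H →ₗ[k] H) →+* WithConv (H →ₗ[k] H ⊗[k] H)) :=
    fun g =>
    { toFun := fun f => toConv (g.toLinearMap ∘ₗ f.ofConv)
      map_one' := by ext x; simp
      map_mul' := fun f f' => by
        apply WithConv.ofConv_injective
        exact LinearMap.algHom_comp_convMul_distrib g f f'
      map_zero' := by ext x; simp
      map_add' := fun f f' => by ext x; simp }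
  have hpost : ∀ (g : H →ₐ[k] H ⊗[k] H) (f : WithConv (H →ₗ[k] H)) (x : H),
      post g f x = g (f x) := fun g f x => rfl
  have hj1 : j1 = post i1 (J k H) := rfl
  have hj2 : j2 = post i2 (J k H) := rfl
  have hΔ : post (Bialgebra.comulAlgHom k H) (J k H + 1) = (j1 + 1) * (j2 + 1) := by
    rw [hj1, hj2, ← map_one (post i1), ← map_add]
    conv_rhs => rw [map_one, ← map_one (post i2), ← map_add]
    rw [← toConv_id_eq]
    ext x
    rw [hpost, mul_apply_eq]
    show comul (R := k) x = _
    generalize comul (R := k) x = t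
    induction t using TensorProduct.induction_on with
    | zero => simp
    | tmul a b => simp [i1, i2, post]
    | add a b ha hb => simp only [map_add, ← ha, ← hb]
  have hcomm : Commute (j1 + 1) (j2 + 1) := by
    have : Commute (post i1 (J k H + 1)) (post i2 (J k H + 1)) := by
      rw [← toConv_id_eq]
      ext x
      rw [mul_apply_eq, mul_apply_eq]
      conv_lhs => rw [← comm_comul k x]
      generalize comul (R := k) x = t
      induction t using TensorProduct.induction_on with
      | zero => simp
      | tmul a b => simp [i1, i2, post]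
      | add a b ha hb => simp only [map_add, ha, hb]
    simpa [hj1, hj2] using this
  have e1 : ∀ a, (j1 ^ a) h = i1 (((J k H) ^ a) h) := fun a => by
    rw [hj1, ← map_pow]; rfl
  have e2 : ∀ a, (j2 ^ a) h = i2 (((J k H) ^ a) h) := fun a => by
    rw [hj2, ← map_pow]; rfl
  have j1one : j1 (1 : H) = 0 := by simp [j1, red1_apply]
  have j2one : j2 (1 : H) = 0 := by simp [j2, red1_apply]
  have hprod : ∀ a b, N + 1 ≤ a ∨ N + 1 ≤ b → (j1 ^ a * j2 ^ b) h = 0 := by
    rintro a b (h' | h')
    · exact (kills_pow_le j1one h').mul_right _ h hN'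
    · exact (kills_pow_le j2one h').mul_left _ h hN'
  -- the identity at every natural number
  have key : ∀ m : ℕ,
      ∑ a ∈ Finset.range (N + 1), (chP a : k[X]).eval (m : k) • comul (R := k) (((J k H) ^ a) h) =
      ∑ p ∈ Finset.range (N + 1) ×ˢ Finset.range (N + 1),
        ((chP p.1 : k[X]) * chP p.2).eval (m : k) • (j1 ^ p.1 * j2 ^ p.2) h := by
    intro m
    have l := binom_hom (k := k) ((evh h).comp
        (post (Bialgebra.comulAlgHom k H)).toAddMonoidHom) (j := J k H) (N := N + 1)
      (fun a ha => by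
        show comul (R := k) (((J k H) ^ a) h) = 0
        rw [kills_pow_le J_one ha h hN', map_zero]) m
    change evh h (post (Bialgebra.comulAlgHom k H) ((J k H + 1) ^ m)) =
      ∑ a ∈ Finset.range (N + 1),
        (chP a : k[X]).eval (m : k) • comul (R := k) (((J k H) ^ a) h) at l
    rw [← l, map_pow, hΔ, hcomm.mul_pow, Finset.sum_product]
    have l1 := binom_hom (k := k) ((evh h).comp (AddMonoidHom.mulRight ((j2 + 1) ^ m))) (j := j1)
      (N := N + 1) (fun a ha => (kills_pow_le j1one ha).mul_right _ h hN') m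
    refine l1.trans (Finset.sum_congr rfl fun a _ => ?_)
    have l2 := binom_hom (k := k) ((evh h).comp (AddMonoidHom.mulLeft (j1 ^ a))) (j := j2)
      (N := N + 1) (fun b hb => hprod a b (Or.inr hb)) m
    simp only [AddMonoidHom.comp_apply, AddMonoidHom.coe_mulRight, AddMonoidHom.coe_mulLeft,
      evh_apply] at l2 ⊢
    rw [l2, Finset.smul_sum]
    simp only [eval_mul, mul_smul]
  -- take linear coefficients
  let L : k[X] →ₗ[k] k := Polynomial.lcoeff k 1
  have hsum := sum_L_smul_eq_zero ((Finset.range (N + 1)).disjSum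
      (Finset.range (N + 1) ×ˢ Finset.range (N + 1)))
    (Sum.elim (fun a => (chP a : k[X])) (fun p => (chP p.1 : k[X]) * chP p.2))
    (Sum.elim (fun a => comul (R := k) (((J k H) ^ a) h))
      (fun p => -((j1 ^ p.1 * j2 ^ p.2) h)))
    (fun m => by
      simp only [Finset.sum_disjSum, Sum.elim_inl, Sum.elim_inr, smul_neg, Finset.sum_neg_distrib]
      rw [key m, add_neg_cancel]) L
  simp only [Finset.sum_disjSum, Sum.elim_inl, Sum.elim_inr, smul_neg, Finset.sum_neg_distrib,
    L, Polynomial.lcoeff_apply, ← sub_eq_add_neg, sub_eq_zero] at hsum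
  rw [logId_eq hH hN', map_sum]
  simp only [map_smul]
  refine hsum.trans ?_
  simp only [coeff_one_mul_chP, add_smul, Finset.sum_add_distrib, ite_smul, zero_smul]
  rw [TensorProduct.sum_tmul, TensorProduct.tmul_sum]
  simp only [TensorProduct.smul_tmul', TensorProduct.tmul_smul]
  congr 1
  · rw [Finset.sum_product]
    refine Finset.sum_congr rfl fun a _ => ?_
    rw [Finset.sum_ite_eq' (Finset.range (N + 1)) 0, if_pos (by simp)]
    rw [pow_zero, mul_one, e1]
    simp [i1, dch, TensorProduct.smul_tmul']
  · rw [Finset.sum_product_right]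
    refine Finset.sum_congr rfl fun b _ => ?_
    rw [Finset.sum_ite_eq' (Finset.range (N + 1)) 0, if_pos (by simp)]
    rw [pow_zero, one_mul, e2]
    simp [i2, dch, TensorProduct.smul_tmul']

end Groth.Agent.MilnorMooreLib
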