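import Groth.Agent.Lib.MilnorMoore.Log
import Groth.Prelude.Def_SGA3y
import Mathlib.Algebra.Algebra.Operations
import Mathlib.Algebra.Polynomial.AlgebraMap
import Mathlib.RingTheory.Adjoin.Basic

/-!
# Milnor–Moore: a connected cocommutative bialgebra in characteristic zero is an enveloping algebra
-/

noncomputable section

open TensorProduct Coalgebra WithConv Polynomial
attribute [local instance] LieRing.ofAssociativeRing

namespace Groth.Agent.MilnorMooreLib

variable {k : Type*} [Field k] [CharZero k]

section Polar

variable {L : Type*} [LieRing L] [LieAlgebra k L]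

local notation "U" => UniversalEnvelopingAlgebra k L
local notation "ιU" => UniversalEnvelopingAlgebra.ι k (L := L)

variable (k L) in
/-- span of powers `x ^ j`, `j ≤ n` -/
def powSpan (n : ℕ) : Submodule k (UniversalEnvelopingAlgebra k L) :=
  Submodule.span k {u | ∃ (x : L) (j : ℕ), j ≤ n ∧ u = (UniversalEnvelopingAlgebra.ι k x) ^ j}

lemma powSpan_mono {m n : ℕ} (h : m ≤ n) : powSpan k L m ≤ powSpan k L n :=
  Submodule.span_mono fun _ ⟨x, j, hj, e⟩ => ⟨x, j, hj.trans h, e⟩

lemma pow_mem_powSpan (x : L) {j n : ℕ} (h : j ≤ n) : (ιU x) ^ j ∈ powSpan k L n :=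
  Submodule.subset_span ⟨x, j, h, rfl⟩

/-- first order coefficient of `(a + t b) ^ n` -/
def firstCoeff {R : Type*} [Ring R] (a b : R) : ℕ → R
  | 0 => 0
  | n + 1 => firstCoeff a b n * a + a ^ n * b

set_option maxHeartbeats 1000000 in
/-- `U` is spanned by powers of elements of the Lie algebra. -/
theorem mem_powSpan (u : UniversalEnvelopingAlgebra k L) : ∃ n, u ∈ powSpan k L n := by
  -- commutator of ι y with a power
  have hcomm : ∀ (n : ℕ) (x y : L), (∀ j ≤ n, ∀ (z : L), ∀ v ∈ powSpan k L j, j < n →
      ιU z * v ∈ powSpan k L (j + 1)) → ιU y * (ιU x) ^ n ∈ powSpan k L (n + 1) := by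
    intro n x y ih
    have step : ∀ (j : ℕ), j < n → ∀ (z : L), ∀ v ∈ powSpan k L j, ιU z * v ∈ powSpan k L (j + 1) :=
      fun j hj z v hv => ih j hj.le z v hv hj
    -- products with one fewer factor
    have hmid : ∀ i j : ℕ, i + j + 1 ≤ n → ∀ z : L,
        (ιU x) ^ i * ιU z * (ιU x) ^ j ∈ powSpan k L (i + j + 1) := by
      intro i
      induction i with
      | zero =>
        intro j hj z
        rw [pow_zero, one_mul, Nat.zero_add]
        exact step j (by omega) z _ (pow_mem_powSpan x le_rfl)
      | succ i ihi =>
        intro j hj z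
        rw [pow_succ', mul_assoc, mul_assoc, ← mul_assoc ((ιU x) ^ i)]
        have := step (i + j + 1) (by omega) x _ (ihi j (by omega) z)
        rwa [show i + 1 + j + 1 = i + j + 1 + 1 by omega]
    have hswap : ∀ i j : ℕ, i + j = n →
        ιU y * (ιU x) ^ n - (ιU x) ^ i * ιU y * (ιU x) ^ j ∈ powSpan k L n := by
      intro i
      induction i with
      | zero => intro j hj; simp [← hj]
      | succ i ihi =>
        intro j hj
        have h1 := ihi (j + 1) (by omega)
        have hb : ιU ⁅y, x⁆ = ιU y * ιU x - ιU x * ιU y := by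
          rw [LieHom.map_lie, LieRing.of_associative_ring_bracket]
        have h2 : (ιU x) ^ i * ιU ⁅y, x⁆ * (ιU x) ^ j ∈ powSpan k L n := by
          have := hmid i j (by omega) ⁅y, x⁆
          exact powSpan_mono (by omega) this
        have key : ιU y * (ιU x) ^ n - (ιU x) ^ (i + 1) * ιU y * (ιU x) ^ j
            = (ιU y * (ιU x) ^ n - (ιU x) ^ i * ιU y * (ιU x) ^ (j + 1))
              + (ιU x) ^ i * ιU ⁅y, x⁆ * (ιU x) ^ j := by
          rw [hb, pow_succ, pow_succ']
          simp only [mul_sub, sub_mul, mul_assoc]
          abel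
        rw [key]
        exact Submodule.add_mem _ h1 h2
    -- the first coefficient
    have hfc : ∀ m : ℕ, m ≤ n + 1 →
        ((m : k) • (ιU y * (ιU x) ^ n) - firstCoeff (ιU x) (ιU y) m * (ιU x) ^ (n + 1 - m))
          ∈ powSpan k L n := by
      intro m
      induction m with
      | zero => intro _; simp [firstCoeff]
      | succ m ihm =>
        intro hm
        have h1 := ihm (by omega)
        have h2 := hswap m (n - m) (by omega)
        rw [show n + 1 - m = (n - m) + 1 by omega, pow_succ', ← mul_assoc] at h1
        rw [show n + 1 - (m + 1) = n - m by omega, firstCoeff, Nat.cast_succ, add_smul, one_smul,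
          add_mul]
        have := Submodule.add_mem _ h1 h2
        convert this using 1
        abel
    have hlast := hfc (n + 1) le_rfl
    rw [Nat.sub_self, pow_zero, mul_one] at hlast
    -- the first coefficient is a combination of powers
    have hmem : firstCoeff (ιU x) (ιU y) (n + 1) ∈ powSpan k L (n + 1) := by
      let q := (powSpan k L (n + 1)).mkQ
      let P : Polynomial U := (C (ιU x) + X * C (ιU y)) ^ (n + 1)
      have hP1 : ∀ m : ℕ, (((C (ιU x) + X * C (ιU y)) ^ m : Polynomial U).coeff 1
          = firstCoeff (ιU x) (ιU y) m) ∧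
          (((C (ιU x) + X * C (ιU y)) ^ m : Polynomial U).coeff 0 = (ιU x) ^ m) := by
        intro m
        induction m with
        | zero => simp [firstCoeff, Polynomial.coeff_one]
        | succ m ihm =>
          constructor
          · rw [pow_succ, Polynomial.coeff_mul,
              show Finset.antidiagonal 1 = {(0, 1), (1, 0)} by decide,
              Finset.sum_insert (by simp), Finset.sum_singleton, ihm.1, ihm.2]
            simp [firstCoeff, add_comm]
          · rw [pow_succ, Polynomial.coeff_mul, Finset.Nat.antidiagonal_zero, Finset.sum_singleton,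
              ihm.2, pow_succ]
            simp
      rw [← (hP1 (n + 1)).1, ← Submodule.Quotient.mk_eq_zero]
      have hsum := sum_L_smul_eq_zero (k := k) (Finset.range (P.natDegree + 2)) (fun i => X ^ i)
        (fun i => q (P.coeff i)) (fun m => by
          have e : P.eval₂ (RingHom.id U) (algebraMap k U (m : k)) = (ιU (x + (m : k) • y)) ^ (n + 1) := by
            let φ := Polynomial.eval₂RingHom' (RingHom.id U) (algebraMap k U (m : k))
              (fun a => (Algebra.commutes (m : k) a).symm)
            show φ ((C (ιU x) + X * C (ιU y)) ^ (n + 1)) = _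
            rw [map_pow, map_add, map_mul]
            have hC : ∀ a : U, φ (C a) = a := fun a => by simp [φ, Polynomial.eval₂RingHom']
            have hX : φ X = algebraMap k U (m : k) := by simp [φ, Polynomial.eval₂RingHom']
            rw [hC, hC, hX, ← Algebra.smul_def, map_add (ιU), map_smul (ιU)]
          have h0 : q (P.eval₂ (RingHom.id U) (algebraMap k U (m : k))) = 0 := by
            rw [e]
            exact (Submodule.Quotient.mk_eq_zero _).2 (pow_mem_powSpan _ le_rfl)
          rw [Polynomial.eval₂_eq_sum_range' _ (Nat.lt_add_of_pos_right (by omega) :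
            P.natDegree < P.natDegree + 2), map_sum] at h0
          refine Eq.trans (Finset.sum_congr rfl fun i _ => ?_) h0
          rw [eval_pow, eval_X, RingHom.id_apply, ← map_pow, ← Algebra.commutes, ← Algebra.smul_def,
            map_smul]) (Polynomial.lcoeff k 1)
      simp only [Polynomial.lcoeff_apply, coeff_X_pow, ite_smul, one_smul, zero_smul,
        Finset.sum_ite_eq] at hsum
      rw [if_pos (by simp)] at hsum
      exact hsum
    have hfin := Submodule.add_mem _ (powSpan_mono (Nat.le_succ n) hlast) hmem
    rw [sub_add_cancel] at hfin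
    have := Submodule.smul_mem _ (((n + 1 : ℕ) : k)⁻¹) hfin
    rwa [inv_smul_smul₀ (Nat.cast_ne_zero.2 (Nat.succ_ne_zero n))] at this
  have hmul : ∀ (n : ℕ) (y : L), ∀ v ∈ powSpan k L n, ιU y * v ∈ powSpan k L (n + 1) := by
    intro n
    induction n using Nat.strong_induction_on with
    | _ n ih =>
      intro y v hv
      induction hv using Submodule.span_induction with
      | mem v hv =>
        obtain ⟨x, j, hj, rfl⟩ := hv
        rcases eq_or_lt_of_le hj with rfl | hlt
        · exact hcomm j x y fun i _ z w hw hi => ih i hi z w hw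
        · exact powSpan_mono (by omega) (ih j hlt y _ (pow_mem_powSpan x le_rfl))
      | zero => simp
      | add a b _ _ ha hb => rw [mul_add]; exact Submodule.add_mem _ ha hb
      | smul c a _ ha => rw [mul_smul_comm]; exact Submodule.smul_mem _ _ ha
  obtain ⟨t, rfl⟩ : ∃ t, UniversalEnvelopingAlgebra.mkAlgHom k L t = u := by
    obtain ⟨t, ht⟩ := Quotient.exists_rep u
    exact ⟨t, ht⟩
  -- left multiplication closes on everything
  suffices ∀ v : U, (∃ n, v ∈ powSpan k L n) →
      ∃ n, UniversalEnvelopingAlgebra.mkAlgHom k L t * v ∈ powSpan k L n by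
    obtain ⟨n, hn⟩ := this 1 ⟨0, by simpa using pow_mem_powSpan (0 : L) (le_refl 0)⟩
    exact ⟨n, by simpa using hn⟩
  induction t using TensorAlgebra.induction with
  | algebraMap r =>
    rintro v ⟨n, hn⟩
    exact ⟨n, by rw [AlgHom.commutes, ← Algebra.smul_def]; exact Submodule.smul_mem _ _ hn⟩
  | ι x =>
    rintro v ⟨n, hn⟩
    exact ⟨n + 1, hmul n x v hn⟩
  | mul a b ha hb =>
    intro v hv
    rw [map_mul, mul_assoc]
    exact ha _ (hb v hv)
  | add a b ha hb =>
    intro v hv
    obtain ⟨m, hm⟩ := ha v hv
    obtain ⟨n, hn⟩ := hb v hv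
    rw [map_add, add_mul]
    exact ⟨max m n, Submodule.add_mem _ (powSpan_mono (le_max_left _ _) hm)
      (powSpan_mono (le_max_right _ _) hn)⟩

end Polar

variable {H : Type*} [Ring H] [Bialgebra k H] [IsCocomm k H]

omit [CharZero k] in
lemma conn_of_isConnectedCoalg (hconn : SGA3y.IsConnectedCoalg k H) : Conn k H := by
  have h1 : ∀ a : H →ₗ[k] k, T a (1 : H) = a (1 : H) • (1 : H) := fun a => T_one a
  have h2 : ∀ D : Submodule k H, Stable D → D ≠ ⊥ → (1 : H) ∈ D := by
    intro D hD hne
    unfold SGA3y.IsConnectedCoalg at hconn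
    exact hconn D (fun d hd => hD.comul_mem hd) hne
  have h0 : (1 : H) ≠ 0 := by
    intro h0
    have := congrArg (counit (R := k)) h0
    rw [Bialgebra.counit_one, map_zero] at this
    exact one_ne_zero this
  intro h
  exact exists_mem_Fil (H := H) (e := (1 : H)) h1 h0 h2 h

section Prim

variable {B : Type*} [Ring B] [Algebra k B]

omit [CharZero k] [IsCocomm k H] in
lemma counit_prim {x : H} (hx : comul (R := k) x = x ⊗ₜ[k] (1 : H) + (1 : H) ⊗ₜ[k] x) :
    counit (R := k) x = 0 := by
  have h := congrArg (LinearMap.rTensor H (counit (R := k))) hx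
  rw [Coalgebra.rTensor_counit_comul] at h
  have h' := congrArg (TensorProduct.lid k H) h
  simp only [map_add, LinearMap.rTensor_tmul, TensorProduct.lid_tmul, Bialgebra.counit_one,
    one_smul] at h'
  have h'' := congrArg (counit (R := k)) h'
  simpa using h''

omit [CharZero k] in
lemma mul_apply_pow {x : H} (hx : comul (R := k) x = x ⊗ₜ[k] (1 : H) + (1 : H) ⊗ₜ[k] x)
    (f g : WithConv (H →ₗ[k] B)) (n : ℕ) :
    (f * g) (x ^ n) = ∑ i ∈ Finset.range (n + 1), n.choose i • (f (x ^ i) * g (x ^ (n - i))) := by
  have hc : Commute (x ⊗ₜ[k] (1 : H)) ((1 : H) ⊗ₜ[k] x) := by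
    simp [Commute, SemiconjBy]
  rw [mul_apply_eq, Bialgebra.comul_pow, hx, hc.add_pow, map_sum, map_sum]
  refine Finset.sum_congr rfl fun i _ => ?_
  rw [← nsmul_eq_mul', map_nsmul, map_nsmul, Algebra.TensorProduct.tmul_pow,
    Algebra.TensorProduct.tmul_pow, one_pow, one_pow, Algebra.TensorProduct.tmul_mul_tmul,
    mul_one, one_mul, TensorProduct.map_tmul, LinearMap.mul'_apply]

omit [CharZero k] in
lemma id_pow_apply_pow {x : H} (hx : comul (R := k) x = x ⊗ₜ[k] (1 : H) + (1 : H) ⊗ₜ[k] x)
    (m n : ℕ) : ((toConv LinearMap.id : WithConv (H →ₗ[k] H)) ^ m) (x ^ n) = (m : k) ^ n • x ^ n := by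
  induction m generalizing n with
  | zero =>
    rcases n with _ | n
    · simp
    · simp [counit_prim hx, zero_pow]
  | succ m ih =>
    rw [pow_succ, mul_apply_pow hx]
    rw [show ∀ (c : k), c ^ n • x ^ n = ((c ^ n) • x ^ n) from fun _ => rfl]
    rw [Nat.cast_succ, add_pow, Finset.sum_smul]
    refine Finset.sum_congr rfl fun i hi => ?_
    rw [ih, WithConv.ofConv_toConv, LinearMap.id_apply, smul_mul_assoc, ← pow_add,
      Nat.add_sub_cancel' (Nat.lt_succ_iff.1 (Finset.mem_range.1 hi)), one_pow, mul_one,
      mul_smul, Nat.cast_smul_eq_nsmul]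
    exact smul_comm _ _ _

end Prim

variable (hH : Conn k H)
include hH

lemma logId_pow {x : H} (hx : comul (R := k) x = x ⊗ₜ[k] (1 : H) + (1 : H) ⊗ₜ[k] x) (n : ℕ) :
    logId hH (x ^ n) = if n = 1 then x else 0 := by
  obtain ⟨N, hN⟩ := hH (x ^ n)
  rw [logId_eq hH hN]
  have key : ∀ m : ℕ, ∑ a ∈ Finset.range N, (chP a : k[X]).eval (m : k) • ((J k H) ^ a) (x ^ n)
      = (m : k) ^ n • x ^ n := by
    intro m
    rw [← id_pow_apply_pow hx m n, toConv_id_eq]
    exact (binom_hom (k := k) (evh (x ^ n)) (j := J k H)
      (fun a ha => kills_pow_le J_one ha _ hN) m).symm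
  have hsum := sum_L_smul_eq_zero (k := k) (V := H) ((Finset.range N).disjSum {()})
    (Sum.elim (fun a => (chP a : k[X])) (fun _ => X ^ n))
    (Sum.elim (fun a => ((J k H) ^ a) (x ^ n)) (fun _ => -(x ^ n)))
    (fun m => by
      simp only [Finset.sum_disjSum, Sum.elim_inl, Sum.elim_inr, Finset.sum_singleton, eval_pow,
        eval_X, smul_neg]
      rw [key m, add_neg_cancel]) (Polynomial.lcoeff k 1)
  simp only [Finset.sum_disjSum, Sum.elim_inl, Sum.elim_inr, Finset.sum_singleton, smul_neg,
    Polynomial.lcoeff_apply, ← sub_eq_add_neg, sub_eq_zero] at hsum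
  refine hsum.trans ?_
  rw [coeff_X_pow]
  by_cases hn : n = 1
  · subst hn; simp
  · rw [if_neg (Ne.symm hn), if_neg hn, zero_smul]

set_option maxHeartbeats 1000000 in
theorem bijective_lift :
    Function.Bijective (UniversalEnvelopingAlgebra.lift k (SGA3y.primLie k H).incl) := by
  set g := SGA3y.primLie k H
  set f := UniversalEnvelopingAlgebra.lift k g.incl with hf
  have hfι : ∀ (x : g) (n : ℕ), f ((UniversalEnvelopingAlgebra.ι k x) ^ n) = (x : H) ^ n := by
    intro x n
    rw [map_pow, hf, UniversalEnvelopingAlgebra.lift_ι_apply]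
    rfl
  let πg : H →ₗ[k] g :=
    { toFun := fun h => ⟨logId hH h, comul_logId hH h⟩
      map_add' := fun a b => Subtype.ext (map_add (logId hH) a b)
      map_smul' := fun c a => Subtype.ext (map_smul (logId hH) c a) }
  constructor
  · let ψ : WithConv (H →ₗ[k] UniversalEnvelopingAlgebra k g) :=
      toConv ((UniversalEnvelopingAlgebra.ι k (L := g)).toLinearMap ∘ₗ πg)
    have hψ1 : ψ (1 : H) = 0 := by
      have : πg (1 : H) = 0 := Subtype.ext (logId_one hH)
      simp [ψ, this]
    let F : H → UniversalEnvelopingAlgebra k g :=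
      fun h => ∑ᶠ j, ((j.factorial : k)⁻¹) • (ψ ^ j) h
    have hfinS : ∀ h, (Function.support fun j => ((j.factorial : k)⁻¹) • (ψ ^ j) h).Finite := by
      intro h
      obtain ⟨n, hn⟩ := hH h
      refine (Set.finite_lt_nat n).subset fun a ha => ?_
      by_contra hlt
      exact ha (by simp [kills_pow_le hψ1 (not_lt.1 hlt) h hn])
    let Fl : H →ₗ[k] UniversalEnvelopingAlgebra k g :=
      { toFun := F
        map_add' := fun a b => by
          simp only [F]
          rw [← finsum_add_distrib (hfinS a) (hfinS b)]
          simp only [map_add, smul_add]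
        map_smul' := fun c a => by
          simp only [F, RingHom.id_apply]
          rw [smul_finsum]
          simp only [map_smul]
          exact finsum_congr fun j => smul_comm _ _ _ }
    have hpow : ∀ (x : g) (j n : ℕ), (ψ ^ j) ((x : H) ^ n) =
        if j = n then (n.factorial : k) • (UniversalEnvelopingAlgebra.ι k x) ^ n else 0 := by
      intro x j
      induction j with
      | zero =>
        intro n
        rcases n with _ | n
        · simp
        · simp [counit_prim x.2, zero_pow]
      | succ j ih =>
        intro n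
        have hψx : ∀ i, ψ ((x : H) ^ i) =
            if i = 1 then UniversalEnvelopingAlgebra.ι k x else 0 := by
          intro i
          have : πg ((x : H) ^ i) = if i = 1 then x else 0 := by
            apply Subtype.ext
            show logId hH ((x : H) ^ i) = _
            rw [logId_pow hH x.2 i]
            split_ifs <;> rfl
          show (UniversalEnvelopingAlgebra.ι k (L := g)) (πg ((x : H) ^ i)) = _
          rw [this]
          split_ifs <;> simp
        rw [pow_succ, mul_apply_pow x.2]
        simp only [hψx, mul_ite, mul_zero, smul_ite, smul_zero]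
        rcases n with _ | n
        · simp
        · rw [Finset.sum_eq_single n (fun i hi hne => by
              rw [Finset.mem_range] at hi
              rw [if_neg (by omega)]) (fun h => absurd (Finset.mem_range.2 (by omega)) h),
            if_pos (by omega), ih]
          by_cases hjn : j = n
          · subst hjn
            rw [if_pos rfl, if_pos rfl, smul_mul_assoc, ← pow_succ, Nat.choose_succ_self_right,
              ← Nat.cast_smul_eq_nsmul k, smul_smul, ← Nat.cast_mul, Nat.factorial_succ]
          · rw [if_neg hjn, if_neg (by omega), zero_mul, smul_zero]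
    have hleft : ∀ u, Fl (f u) = u := by
      intro u
      obtain ⟨n, hn⟩ := mem_powSpan u
      induction hn using Submodule.span_induction with
      | mem v hv =>
        obtain ⟨x, j, -, rfl⟩ := hv
        rw [hfι]
        show (∑ᶠ i, ((i.factorial : k)⁻¹) • (ψ ^ i) ((x : H) ^ j)) = _
        rw [finsum_eq_single _ j (fun i hi => by rw [hpow, if_neg hi, smul_zero]), hpow, if_pos rfl,
          inv_smul_smul₀ (Nat.cast_ne_zero.2 j.factorial_ne_zero)]
      | zero => simp
      | add a b _ _ ha hb => rw [map_add, map_add, ha, hb]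
      | smul c a _ ha => rw [map_smul, map_smul, ha]
    exact Function.LeftInverse.injective hleft
  · intro h
    suffices ∀ (n : ℕ) (j : ℕ), ∀ x ∈ FH k H n, ((J k H) ^ (j + 1)) x ∈ f.range by
      obtain ⟨n, hn⟩ := hH h
      have h1 := this n 0 h hn
      rw [pow_one] at h1
      have : h = J k H h + algebraMap k H (counit (R := k) h) := by simp [J, red1_apply]
      have hmem : h ∈ f.range := this ▸ Subalgebra.add_mem _ h1 (Subalgebra.algebraMap_mem _ _)
      exact hmem
    intro n
    induction n with
    | zero => intro j x hx; simp [Fil] at hx; simp [hx]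
    | succ n ih =>
      have hhigh : ∀ (j : ℕ), ∀ x ∈ FH k H (n + 1), ((J k H) ^ (j + 1 + 1)) x ∈ f.range := by
        intro j x hx
        obtain ⟨s, hs⟩ := red_comul_mem hx
        rw [pow_succ, mul_apply_red (pow_one_apply J_one j) J_one, ← hs]
        clear hs
        induction s using TensorProduct.induction_on with
        | zero => simp
        | tmul a b =>
          simp only [TensorProduct.map_tmul, Submodule.subtype_apply, LinearMap.mul'_apply]
          exact Subalgebra.mul_mem _ (ih j a a.2) (by simpa using ih 0 b b.2)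
        | add a b ha hb => simp only [map_add]; exact Subalgebra.add_mem _ ha hb
      intro j x hx
      rcases j with _ | j
      · have hlog : logId hH x ∈ f.range :=
          ⟨UniversalEnvelopingAlgebra.ι k ⟨logId hH x, comul_logId hH x⟩, by
            rw [hf]
            exact UniversalEnvelopingAlgebra.lift_ι_apply k g.incl _⟩
        rw [logId_eq hH (Fil_mono (Nat.le_succ _) hx : x ∈ FH k H (n + 1 + 1)),
          Finset.sum_range_succ', Finset.sum_range_succ', dch_zero, zero_smul, add_zero,
          dch_one, one_smul] at hlog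
        have := Subalgebra.sub_mem _ hlog (Subalgebra.sum_mem _ (fun a (_ : a ∈ Finset.range n) =>
          Subalgebra.smul_mem f.range (hhigh a x hx) (dch (k := k) (a + 1 + 1))))
        rwa [add_sub_cancel_left] at this
      · exact hhigh j x hx

end Groth.Agent.MilnorMooreLib
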